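import Groth.Agent.ElemSqLib.Main
import Groth.Agent.ASp.Points
import Groth.Prelude

/-!
Covers attached to an elementary distinguished square whose parts are schemes.
-/

set_option autoImplicit false
set_option backward.isDefEq.respectTransparency false
set_option backward.isDefEq.respectTransparency.types false
set_option linter.style.haveILetI false

universe u

open CategoryTheory CategoryTheory.Limits AlgebraicGeometry Opposite

namespace Groth.Agent.AlgSpMV

open _root_.AlgSp

variable {S : Scheme.{u}} {X : Sp S}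

/-- Two maps into a product of charts agree when both projections do. -/
theorem eq_of_proj (A B : EtOver X) {Q : Over S} (g g' : Q ⟶ (A ⨯ B).obj.left)
    (h1 : g ≫ (prod.fst : A ⨯ B ⟶ A).hom.left = g' ≫ (prod.fst : A ⨯ B ⟶ A).hom.left)
    (h2 : g ≫ (prod.snd : A ⨯ B ⟶ B).hom.left = g' ≫ (prod.snd : A ⨯ B ⟶ B).hom.left) : g = g' := by
  let e : A ⨯ B ≅ EtOver.prodObj A B :=
    (prodIsProd A B).conePointUniqueUpToIso (EtOver.prodIsLimit A B)
  have he1 : e.hom ≫ EtOver.prodFst A B = prod.fst :=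
    IsLimit.conePointUniqueUpToIso_hom_comp (prodIsProd A B) (EtOver.prodIsLimit A B) ⟨WalkingPair.left⟩
  have he2 : e.hom ≫ EtOver.prodSnd A B = prod.snd :=
    IsLimit.conePointUniqueUpToIso_hom_comp (prodIsProd A B) (EtOver.prodIsLimit A B) ⟨WalkingPair.right⟩
  have k : g ≫ e.hom.hom.left = g' ≫ e.hom.hom.left := by
    refine B.property.1.hom_ext' ?_ ?_
    · show (g ≫ _) ≫ (EtOver.prodSnd A B).hom.left = (g' ≫ _) ≫ (EtOver.prodSnd A B).hom.left
      rw [← he2] at h2
      exact (Category.assoc _ _ _).trans (h2.trans (Category.assoc _ _ _).symm)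
    · show (g ≫ _) ≫ (EtOver.prodFst A B).hom.left = (g' ≫ _) ≫ (EtOver.prodFst A B).hom.left
      rw [← he1] at h1
      exact (Category.assoc _ _ _).trans (h1.trans (Category.assoc _ _ _).symm)
  haveI : IsIso e.hom.hom.left := ((EtOver.forget X).mapIso e).isIso_hom
  exact (cancel_mono e.hom.hom.left).1 k

/-- A point of a chart over a point of a second chart lifts to their product. -/
theorem exists_prod_lift (A W : EtOver X) (w : ↥W.obj.left.left) (a : Points ((yon S).obj A.obj.left))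
    (h : Points.map A.obj.hom a = Points.ofPt W.obj.hom w) :
    w ∈ Set.range (prod.snd : A ⨯ W ⟶ W).hom.left.left := by
  have sq := A.property.1.isPullback W.obj.hom
  obtain ⟨z, -, hz⟩ := ASp.points_exists_of_isPullback sq a (Points.ofScheme W.obj.left w)
    (by rw [h]; exact Points.ofPt_eq_map_ofScheme _ _)
  obtain ⟨q, rfl⟩ := (Points.schemeEquiv _).surjective z
  refine ⟨(prod.lift (EtOver.prodSnd W A) (EtOver.prodFst W A) : EtOver.prodObj W A ⟶ A ⨯ W).hom.left.left q, ?_⟩
  have e : (prod.lift (EtOver.prodSnd W A) (EtOver.prodFst W A) : EtOver.prodObj W A ⟶ A ⨯ W).hom.left ≫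
      (prod.snd : A ⨯ W ⟶ W).hom.left = (EtOver.prodFst W A).hom.left :=
    congrArg (fun k : EtOver.prodObj W A ⟶ W => k.hom.left) (prod.lift_snd _ _)
  have e2 := congrArg (fun k : (EtOver.prodObj W A).obj.left ⟶ W.obj.left => k.left q) e
  simp only [Over.comp_left, Scheme.Hom.comp_apply] at e2
  refine e2.trans ?_
  exact (Points.schemeHomeo W.obj.left).injective ((Points.map_yon_map_apply _ q).symm.trans hz)

variable {U V : EtOver X}

theorem subsingleton_hom (hsq : IsElemDistSq U.obj.hom V.obj.hom) (W : EtOver X) : Subsingleton (W ⟶ U) := by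
  haveI : Mono U.obj.hom := ASp.mono_of_repWith (P := @IsOpenImmersion)
    (fun g hg => haveI : IsOpenImmersion g := hg; inferInstance) hsq.1
  exact ⟨fun g g' => EtOver.hom_ext _ _ ((yon S).map_injective
    ((cancel_mono U.obj.hom).1 ((EtOver.w g).trans (EtOver.w g').symm)))⟩

theorem cover_two (hsq : IsElemDistSq U.obj.hom V.obj.hom) (W : EtOver X) :
    Sieve.ofTwoArrows (prod.snd : U ⨯ W ⟶ W) (prod.snd : V ⨯ W ⟶ W) ∈ etTop X W := by
  refine ofArrows_mem_etTop _ _ fun w => ?_
  rcases ElemSqLib.mem_range_or hsq (Points.ofPt W.obj.hom w) with ⟨a, ha⟩ | ⟨a, ha⟩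
  · exact ⟨WalkingPair.left, exists_prod_lift U W w a ha⟩
  · exact ⟨WalkingPair.right, exists_prod_lift V W w a ha⟩

theorem cover_diag (hsq : IsElemDistSq U.obj.hom V.obj.hom) (W : EtOver X) :
    Sieve.ofTwoArrows (prod.lift (prod.fst : V ⨯ W ⟶ V) (𝟙 _))
      (prod.snd : U ⨯ (V ⨯ (V ⨯ W)) ⟶ V ⨯ (V ⨯ W)) ∈ etTop X (V ⨯ (V ⨯ W)) := by
  let K := V ⨯ (V ⨯ W)
  refine ofArrows_mem_etTop _ _ fun z => ?_
  by_cases hz : Points.ofPt K.obj.hom z ∈ Set.range (Points.map U.obj.hom)
  · obtain ⟨a, ha⟩ := hz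
    exact ⟨WalkingPair.right, exists_prod_lift U K z a ha⟩
  refine ⟨WalkingPair.left, ?_⟩
  let Q : Over S := Over.mk (K.obj.left.left.fromSpecResidueField z ≫ K.obj.left.hom)
  let g : Q ⟶ K.obj.left := Over.homMk (K.obj.left.left.fromSpecResidueField z) rfl
  haveI : IsReduced Q.left := inferInstanceAs (IsReduced (Spec (K.obj.left.left.residueField z)))
  have e := ElemSqLib.lift_unique hsq ((yon S).map (g ≫ (prod.fst : K ⟶ V).hom.left))
    ((yon S).map (g ≫ (prod.snd ≫ prod.fst : K ⟶ V).hom.left))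
    (by rw [Functor.map_comp, Functor.map_comp, Category.assoc, Category.assoc, EtOver.w, EtOver.w])
    (fun q => by
      rw [Functor.map_comp, Category.assoc, EtOver.w, ASp.ofPt_yon_map_comp]
      have : g.left q = z := Scheme.fromSpecResidueField_apply (X := K.obj.left.left) z q
      rw [this]
      exact hz)
  have e' := (yon S).map_injective e
  let D : V ⨯ W ⟶ K := prod.lift prod.fst (𝟙 _)
  let k : Q ⟶ (V ⨯ W).obj.left := g ≫ (prod.snd : K ⟶ V ⨯ W).hom.left
  have hk : k ≫ D.hom.left = g := by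
    refine eq_of_proj V (V ⨯ W) _ _ ?_ ?_
    · refine (Category.assoc _ _ _).trans ((congrArg (k ≫ ·) (congrArg (fun a : V ⨯ W ⟶ V => a.hom.left)
        (prod.lift_fst (prod.fst : V ⨯ W ⟶ V) (𝟙 _)))).trans ?_)
      exact (Category.assoc _ _ _).trans e'.symm
    · refine (Category.assoc _ _ _).trans ((congrArg (k ≫ ·) (congrArg (fun a : V ⨯ W ⟶ V ⨯ W => a.hom.left)
        (prod.lift_snd (prod.fst : V ⨯ W ⟶ V) (𝟙 _)))).trans ?_)
      exact Category.comp_id _
  obtain ⟨q0⟩ : Nonempty ↥Q.left := inferInstanceAs (Nonempty (PrimeSpectrum (K.obj.left.left.residueField z)))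
  refine ⟨k.left q0, ?_⟩
  show D.hom.left.left (k.left q0) = z
  rw [← Scheme.Hom.comp_apply, ← Over.comp_left, hk]
  exact Scheme.fromSpecResidueField_apply (X := K.obj.left.left) z q0

end Groth.Agent.AlgSpMV
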