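import Mathlib

/-!
Mayer-Vietoris gluing for a distinguished pair of objects, abstractly.
-/

set_option autoImplicit false

universe w v u

open CategoryTheory CategoryTheory.Limits Opposite

namespace Groth.Agent.AlgSpMV

variable {C : Type u} [Category.{v} C] {J : GrothendieckTopology C}
variable (P : Cᵒᵖ ⥤ AddCommGrpCat.{w})

/-- Restriction of a section. -/
abbrev rs {A B : C} (f : A ⟶ B) (x : P.obj (op B)) : P.obj (op A) := P.map f.op x

theorem rs_rs {A B D : C} (f : A ⟶ B) (g : B ⟶ D) (x : P.obj (op D)) : rs P f (rs P g x) = rs P (f ≫ g) x := by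
  simp [rs]

theorem rs_id {A : C} (x : P.obj (op A)) : rs P (𝟙 A) x = x := by simp [rs]

theorem rs_congr {A B : C} {f g : A ⟶ B} (h : f = g) (x : P.obj (op B)) : rs P f x = rs P g x := by rw [h]

section
variable {P} (hP : Presieve.IsSheaf J (P ⋙ CategoryTheory.forget _)) {A B W : C} {f : A ⟶ W} {g : B ⟶ W}
  (hc : Sieve.ofTwoArrows f g ∈ J W)
include hP hc

theorem two_ext {x y : P.obj (op W)} (hf : rs P f x = rs P f y) (hg : rs P g x = rs P g y) : x = y := by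
  have h := (Presieve.isSheafFor_iff_generate _).2 (hP _ hc)
  exact h.isSeparatedFor.ext fun Z k hk => by
    cases hk with | mk i => rcases i with _ | _ <;> assumption

theorem two_glue (a : P.obj (op A)) (b : P.obj (op B))
    (haa : ∀ (Z : C) (p q : Z ⟶ A), p ≫ f = q ≫ f → rs P p a = rs P q a)
    (hab : ∀ (Z : C) (p : Z ⟶ A) (q : Z ⟶ B), p ≫ f = q ≫ g → rs P p a = rs P q b)
    (hbb : ∀ (Z : C) (p q : Z ⟶ B), p ≫ g = q ≫ g → rs P p b = rs P q b) :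
    ∃ x : P.obj (op W), rs P f x = a ∧ rs P g x = b := by
  have h := (Presieve.isSheafFor_iff_generate _).2 (hP _ hc)
  obtain ⟨t, ht, -⟩ := (Presieve.isSheafFor_arrows_iff _ _).1 h
    (fun k : WalkingPair => WalkingPair.casesOn k a b) (fun i j Z p q e => by
      rcases i with _ | _ <;> rcases j with _ | _
      · exact haa Z p q e
      · exact hab Z p q e
      · exact (hab Z q p e.symm).symm
      · exact hbb Z p q e)
  exact ⟨t, ht WalkingPair.left, ht WalkingPair.right⟩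

end

attribute [local simp] prod.lift_fst prod.lift_fst_assoc prod.lift_snd prod.lift_snd_assoc prod.map_fst
  prod.map_fst_assoc prod.map_snd prod.map_snd_assoc

variable [HasBinaryProducts C] {U V : C}

theorem exists_fan {D : C} {fU : D ⟶ U} {fV : D ⟶ V} (hD : IsLimit (BinaryFan.mk fU fV)) {Z : C}
    (x : Z ⟶ U) (y : Z ⟶ V) : ∃ l : Z ⟶ D, l ≫ fU = x ∧ l ≫ fV = y := by
  obtain ⟨l, h1, h2⟩ := BinaryFan.IsLimit.lift' hD x y
  exact ⟨l, h1, h2⟩

/-- The covering data of a distinguished pair. -/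
structure DistPair (J : GrothendieckTopology C) (U V : C) : Prop where
  subsing : ∀ W : C, Subsingleton (W ⟶ U)
  two : ∀ W : C, Sieve.ofTwoArrows (prod.snd : U ⨯ W ⟶ W) (prod.snd : V ⨯ W ⟶ W) ∈ J W
  diag : ∀ W : C, Sieve.ofTwoArrows (prod.lift (prod.fst : V ⨯ W ⟶ V) (𝟙 _))
    (prod.snd : U ⨯ (V ⨯ (V ⨯ W)) ⟶ V ⨯ (V ⨯ W)) ∈ J (V ⨯ (V ⨯ W))

variable {P} (hd : DistPair J U V) (hP : Presieve.IsSheaf J (P ⋙ CategoryTheory.forget _))
variable {D : C} {fU : D ⟶ U} {fV : D ⟶ V} (hD : IsLimit (BinaryFan.mk fU fV))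
include hd

theorem snd_ext {W Z : C} {p q : Z ⟶ U ⨯ W} (h : p ≫ prod.snd = q ≫ prod.snd) : p = q :=
  prod.hom_ext ((hd.subsing Z).elim _ _) h

include hD in
theorem fan_hom_ext {Z : C} {p q : Z ⟶ D} (h : p ≫ fV = q ≫ fV) : p = q :=
  BinaryFan.IsLimit.hom_ext hD ((hd.subsing Z).elim _ _) h

include hP

theorem inj {W : C} {x : P.obj (op W)} (hU : rs P (prod.snd : U ⨯ W ⟶ W) x = 0)
    (hV : rs P (prod.snd : V ⨯ W ⟶ W) x = 0) : x = 0 :=
  two_ext hP (hd.two W) (hU.trans (map_zero (P.map _).hom).symm) (hV.trans (map_zero (P.map _).hom).symm)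

include hD

theorem glue {W : C} (a : P.obj (op (U ⨯ W))) (b : P.obj (op (V ⨯ W)))
    (hab : rs P (prod.map fU (𝟙 W)) a = rs P (prod.map fV (𝟙 W)) b) :
    ∃ x : P.obj (op W), rs P prod.snd x = a ∧ rs P prod.snd x = b := by
  have cross : ∀ (Z : C) (p : Z ⟶ U ⨯ W) (q : Z ⟶ V ⨯ W), p ≫ prod.snd = q ≫ prod.snd →
      rs P p a = rs P q b := by
    intro Z p q e
    obtain ⟨l, hl1', hl2'⟩ := exists_fan hD (p ≫ prod.fst) (q ≫ prod.fst)
    have h := congrArg (rs P (prod.lift l (p ≫ prod.snd) : Z ⟶ D ⨯ W)) hab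
    rw [rs_rs, rs_rs] at h
    rw [rs_congr P (show prod.lift l (p ≫ prod.snd) ≫ prod.map fU (𝟙 W) = p by
      apply prod.hom_ext <;> simp [hl1'])] at h
    rwa [rs_congr P (show prod.lift l (p ≫ prod.snd) ≫ prod.map fV (𝟙 W) = q by
      apply prod.hom_ext <;> simp [hl2', e])] at h
  refine two_glue hP (hd.two W) a b (fun Z p q e => by rw [snd_ext hd e]) cross (fun Z p q e => ?_)
  have key : rs P (prod.snd : V ⨯ (V ⨯ W) ⟶ V ⨯ W) b =
      rs P (prod.lift prod.fst (prod.snd ≫ prod.snd) : V ⨯ (V ⨯ W) ⟶ V ⨯ W) b := by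
    refine two_ext hP (hd.diag W) ?_ ?_
    · rw [rs_rs, rs_rs]
      exact rs_congr P (by apply prod.hom_ext <;> simp) b
    · rw [rs_rs, rs_rs]
      let p' : U ⨯ (V ⨯ (V ⨯ W)) ⟶ U ⨯ W := prod.map (𝟙 U) (prod.snd ≫ prod.snd)
      exact (cross _ p' _ (by simp [p'])).symm.trans (cross _ p' _ (by simp [p']))
  have h := congrArg (rs P (prod.lift (p ≫ prod.fst) q : Z ⟶ V ⨯ (V ⨯ W))) key
  rw [rs_rs, rs_rs] at h
  rw [rs_congr P (show prod.lift (p ≫ prod.fst) q ≫ (prod.snd : V ⨯ (V ⨯ W) ⟶ V ⨯ W) = q by simp)] at h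
  rw [rs_congr P (show prod.lift (p ≫ prod.fst) q ≫
      (prod.lift prod.fst (prod.snd ≫ prod.snd) : V ⨯ (V ⨯ W) ⟶ V ⨯ W) = p by
    apply prod.hom_ext <;> simp [e])] at h
  exact h.symm

theorem lift_of_hom {W : C} (t : W ⟶ U) (s : P.obj (op (D ⨯ W))) :
    ∃ b : P.obj (op (V ⨯ W)), rs P (prod.map fV (𝟙 W)) b = s := by
  obtain ⟨l, -, hl2'⟩ := exists_fan hD ((prod.snd : V ⨯ W ⟶ W) ≫ t) (prod.fst : V ⨯ W ⟶ V)
  refine ⟨rs P (prod.lift l prod.snd) s, ?_⟩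
  rw [rs_rs]
  refine (rs_congr P ?_ s).trans (rs_id P s)
  apply prod.hom_ext
  · refine fan_hom_ext hd hD ?_
    simp [hl2']
  · simp

theorem lift_V {W : C} (s : P.obj (op (D ⨯ W))) :
    ∃ (a : P.obj (op (U ⨯ (V ⨯ W)))) (b : P.obj (op (V ⨯ (V ⨯ W)))),
      rs P (prod.map fU (𝟙 _)) a - rs P (prod.map fV (𝟙 _)) b =
        rs P (prod.map (𝟙 D) (prod.snd : V ⨯ W ⟶ W)) s := by
  obtain ⟨l, -, hl2'⟩ := exists_fan hD (prod.fst : U ⨯ (V ⨯ W) ⟶ U)
    ((prod.snd : U ⨯ (V ⨯ W) ⟶ V ⨯ W) ≫ prod.fst)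
  let n : U ⨯ (V ⨯ W) ⟶ D ⨯ (V ⨯ W) := prod.lift l prod.snd
  obtain ⟨k, -, hk2'⟩ := exists_fan hD (prod.fst : U ⨯ (V ⨯ (V ⨯ W)) ⟶ U)
    ((prod.snd : U ⨯ (V ⨯ (V ⨯ W)) ⟶ V ⨯ (V ⨯ W)) ≫ prod.fst)
  let m : U ⨯ (V ⨯ (V ⨯ W)) ⟶ D ⨯ (V ⨯ W) := prod.lift k (prod.snd ≫ prod.snd)
  generalize rs P (prod.map (𝟙 D) (prod.snd : V ⨯ W ⟶ W)) s = s2
  let q0 : U ⨯ (V ⨯ (V ⨯ W)) ⟶ U ⨯ (V ⨯ W) := prod.map (𝟙 U) prod.snd
  let a := rs P n s2
  obtain ⟨b, -, hb⟩ := two_glue hP (hd.diag W) 0 (rs P q0 a - rs P m s2)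
    (fun Z p q e => by simp [rs])
    (fun Z p q e => by
      rw [show rs P p (0 : P.obj (op (V ⨯ W))) = 0 from map_zero (P.map p.op).hom,
        show rs P q (rs P q0 a - rs P m s2) = rs P q (rs P q0 a) - rs P q (rs P m s2) from
          map_sub (P.map q.op).hom _ _, rs_rs, rs_rs, rs_rs, eq_comm, sub_eq_zero]
      refine rs_congr P ?_ _
      apply prod.hom_ext
      · refine fan_hom_ext hd hD ?_
        have e1 : p ≫ prod.fst = q ≫ prod.snd ≫ prod.fst := by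
          have := congrArg (· ≫ prod.fst) e
          simpa using this
        have e2 : p = q ≫ prod.snd ≫ prod.snd := by
          have := congrArg (· ≫ prod.snd) e
          simpa using this
        simp only [n, m, q0, Category.assoc, prod.lift_fst, hk2']
        rw [← e1, e2]
        simp [hl2']
      · simp [n, m, q0])
    (fun Z p q e => by rw [snd_ext hd e])
  refine ⟨a, b, ?_⟩
  let r : D ⨯ (V ⨯ W) ⟶ U ⨯ (V ⨯ (V ⨯ W)) := prod.lift (prod.fst ≫ fU) (prod.map fV (𝟙 _))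
  have hr := congrArg (rs P r) hb
  rw [rs_rs, show rs P r (rs P q0 a - rs P m s2) = rs P r (rs P q0 a) - rs P r (rs P m s2) from
    map_sub (P.map r.op).hom _ _, rs_rs, rs_rs,
    rs_congr P (show r ≫ (prod.snd : U ⨯ (V ⨯ (V ⨯ W)) ⟶ V ⨯ (V ⨯ W)) = prod.map fV (𝟙 _) by simp [r]),
    rs_congr P (show (r ≫ q0) ≫ n = prod.map fU (𝟙 _) ≫ n by
      congr 1; apply prod.hom_ext <;> simp [r, q0]), ← rs_rs,
    rs_rs P r m, rs_congr P (show r ≫ m = 𝟙 _ by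
      apply prod.hom_ext
      · refine fan_hom_ext hd hD ?_
        simp [r, m, hk2']
      · simp [r, m]), rs_id] at hr
  rw [hr, sub_sub_cancel]

end Groth.Agent.AlgSpMV
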