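import Groth.Prelude
import Groth.Agent.AlgSpMV.Abs

/-!
Short exactness of sheaves of modules on the small etale site from sections.
-/

set_option autoImplicit false
set_option backward.isDefEq.respectTransparency false
set_option backward.isDefEq.respectTransparency.types false
set_option linter.style.haveILetI false

universe u

open CategoryTheory CategoryTheory.Limits AlgebraicGeometry Opposite

namespace Groth.Agent.AlgSpMV

open _root_.AlgSp

noncomputable section

variable {S : Scheme.{u}} {X : Sp S}

/-- Sections. -/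
abbrev Scn (M : ModEt X) (W : EtOver X) : Type (u + 1) := M.val.presheaf.obj (op W)

/-- A morphism on sections. -/
abbrev appW {M N : ModEt X} (φ : M ⟶ N) (W : EtOver X) (x : Scn M W) : Scn N W := φ.val.app (op W) x

theorem appW_rs {M N : ModEt X} (φ : M ⟶ N) {W' W : EtOver X} (h : W' ⟶ W) (x : Scn M W) :
    rs N.val.presheaf h (appW φ W x) = appW φ W' (rs M.val.presheaf h x) :=
  (PresheafOfModules.naturality_apply φ.val h.op x).symm

theorem appW_comp {M N L : ModEt X} (φ : M ⟶ N) (ψ : N ⟶ L) (W : EtOver X) (x : Scn M W) :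
    appW (φ ≫ ψ) W x = appW ψ W (appW φ W x) := rfl

theorem appW_add {M N : ModEt X} (φ ψ : M ⟶ N) (W : EtOver X) (x : Scn M W) :
    appW (φ + ψ) W x = appW φ W x + appW ψ W x := rfl

theorem appW_neg {M N : ModEt X} (φ : M ⟶ N) (W : EtOver X) (x : Scn M W) :
    appW (-φ) W x = -appW φ W x := rfl

theorem appW_ext {M N : ModEt X} {φ ψ : M ⟶ N} (h : ∀ W x, appW φ W x = appW ψ W x) : φ = ψ := by
  apply SheafOfModules.hom_ext
  apply PresheafOfModules.hom_ext
  intro W
  exact ModuleCat.hom_ext (LinearMap.ext fun x => h W.unop x)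

theorem biprod_eta {A B : ModEt X} (W : EtOver X) (y : Scn (A ⊞ B) W) :
    y = appW biprod.inl W (appW biprod.fst W y) + appW biprod.inr W (appW biprod.snd W y) := by
  rw [← appW_comp, ← appW_comp, ← appW_add, biprod.total]
  rfl

/-- Short exactness from sections. -/
theorem shortExact_of_sections {A B D : ModEt X} (f : A ⟶ B) (g : B ⟶ D) (w : f ≫ g = 0)
    (hf : ∀ W x, appW f W x = 0 → x = 0)
    (hker : ∀ W y, appW g W y = 0 → ∃ x, appW f W x = y)
    (hsur : ∀ W (z : Scn D W), ∃ R ∈ etTop X W, ∀ (W' : EtOver X) (h : W' ⟶ W), R h →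
      ∃ y, appW g W' y = rs D.val.presheaf h z) :
    (ShortComplex.mk f g w).ShortExact := by
  haveI : Mono f := ⟨fun a b e => appW_ext fun W x => by
    have h1 : appW (a ≫ f) W x = appW (b ≫ f) W x := by rw [e]
    rw [← sub_eq_zero]
    refine hf W _ ?_
    show f.val.app (op W) (_ - _) = 0
    rw [map_sub, sub_eq_zero]
    exact h1⟩
  haveI : Epi g := by
    suffices Epi ((SheafOfModules.toSheaf (OEtRing X)).map g) from (SheafOfModules.toSheaf _).epi_of_epi_map this
    suffices Sheaf.IsLocallySurjective ((SheafOfModules.toSheaf (OEtRing X)).map g) from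
      (Sheaf.isLocallySurjective_iff_epi' AddCommGrpCat.{u + 1} _).1 this
    refine ⟨fun {U} z => ?_⟩
    obtain ⟨R, hR, h⟩ := hsur U z
    refine (etTop X).superset_covering (fun W' k hk => ?_) hR
    obtain ⟨y, hy⟩ := h W' k hk
    exact ⟨y, hy⟩
  have hlin : ∀ W (a b : Scn A W), appW f W a = appW f W b → a = b := fun W a b e => by
    rw [← sub_eq_zero]
    refine hf W _ ?_
    show f.val.app (op W) (a - b) = 0
    rw [map_sub, sub_eq_zero]
    exact e
  refine ShortComplex.ShortExact.mk (ShortComplex.exact_of_f_is_kernel _ ?_)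
  refine KernelFork.IsLimit.ofι' f w fun {M} t ht => Classical.choice ?_
  have hex : ∀ W (m : Scn M W), ∃ x, appW f W x = appW t W m := fun W m =>
    hker W _ (by rw [← appW_comp, ht]; rfl)
  choose k hk using hex
  refine ⟨⟨⟨PresheafOfModules.homMk
    { app := fun W => AddCommGrpCat.ofHom (AddMonoidHom.mk' (k W.unop) fun a b => hlin _ _ _ (by
        rw [hk]
        show t.val.app W (a + b) = f.val.app W (_ + _)
        rw [map_add, map_add]
        exact congrArg₂ (· + ·) (hk _ a).symm (hk _ b).symm))
      naturality := fun W W' h => by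
        ext m
        refine hlin _ _ _ ?_
        show appW f W'.unop (k W'.unop (rs M.val.presheaf h.unop m)) =
          appW f W'.unop (rs A.val.presheaf h.unop (k W.unop m))
        rw [hk, ← appW_rs, ← appW_rs, hk] }
    (fun W r m => hlin _ _ _ (by
      show appW f W.unop (k W.unop (r • m)) = f.val.app W (r • k W.unop m)
      rw [hk]
      show t.val.app W (r • m) = _
      rw [map_smul, map_smul]
      exact congrArg (r • ·) (hk _ m).symm))⟩, ?_⟩⟩
  exact appW_ext fun W m => hk W m

end

end Groth.Agent.AlgSpMV
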