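import Groth.Agent.AlgSpMV.Site
import Groth.Agent.AlgSpMV.Sec

/-!
Mayer-Vietoris sequence of direct images of an elementary distinguished square.
-/

set_option autoImplicit false
set_option backward.isDefEq.respectTransparency false
set_option backward.isDefEq.respectTransparency.types false
set_option linter.style.haveILetI false

universe u

open CategoryTheory CategoryTheory.Limits AlgebraicGeometry Opposite

noncomputable section

namespace Groth.Agent.AlgSpMV

open _root_.AlgSp

variable {S : Scheme.{u}} {X : Sp S}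

theorem isSheaf_forget (F : ModEt X) :
    Presieve.IsSheaf (etTop X) (F.val.presheaf ⋙ CategoryTheory.forget _) :=
  (isSheaf_iff_isSheaf_of_type _ _).1
    ((Presheaf.isSheaf_iff_isSheaf_forget (etTop X) _ (CategoryTheory.forget _)).1 F.isSheaf)

variable {U V : EtOver X}

theorem distPair (hsq : IsElemDistSq U.obj.hom V.obj.hom) : DistPair (etTop X) U V :=
  ⟨subsingleton_hom hsq, cover_two hsq, cover_diag hsq⟩

/-- The direct image of the restriction. -/
abbrev TT (A : EtOver X) (F : ModEt X) : ModEt X := (resModEt A ⋙ pushOnModEt A).obj F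

/-- Sections of the direct image of the restriction. -/
def toT {A : EtOver X} {F : ModEt X} {W : EtOver X} (a : Scn F (A ⨯ W)) : Scn (TT A F) W := a

/-- Sections of the direct image of the restriction, as sections of the module. -/
def fromT {A : EtOver X} {F : ModEt X} {W : EtOver X} (a : Scn (TT A F) W) : Scn F (A ⨯ W) := a

theorem fromT_toT {A : EtOver X} {F : ModEt X} {W : EtOver X} (a : Scn F (A ⨯ W)) : fromT (toT a) = a := rfl

theorem fromT_inj {A : EtOver X} {F : ModEt X} {W : EtOver X} {a b : Scn (TT A F) W} (h : fromT a = fromT b) :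
    a = b := h

theorem fromT_zero {A : EtOver X} {F : ModEt X} {W : EtOver X} : fromT (0 : Scn (TT A F) W) = 0 := rfl

theorem fromT_add {A : EtOver X} {F : ModEt X} {W : EtOver X} (a b : Scn (TT A F) W) :
    fromT (a + b) = fromT a + fromT b := rfl

theorem fromT_sub {A : EtOver X} {F : ModEt X} {W : EtOver X} (a b : Scn (TT A F) W) :
    fromT (a - b) = fromT a - fromT b := rfl

theorem fromT_unit (A : EtOver X) (F : ModEt X) (W : EtOver X) (x : Scn F W) :
    fromT (appW ((resPushAdjEt A).unit.app F) W x) = rs F.val.presheaf (prod.snd : A ⨯ W ⟶ W) x := rfl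

theorem fromT_push {A A' : EtOver X} (g : A' ⟶ A) (F : ModEt X) (W : EtOver X) (y : Scn (TT A F) W) :
    fromT (appW ((pushResNatTrans g).app F) W y) = rs F.val.presheaf (prod.map g (𝟙 W)) (fromT y) := rfl

theorem fromT_rs {A : EtOver X} (F : ModEt X) {W' W : EtOver X} (k : W' ⟶ W) (y : Scn (TT A F) W) :
    fromT (rs (TT A F).val.presheaf k y) = rs F.val.presheaf (prod.map (𝟙 A) k) (fromT y) := rfl

variable (U V) in
abbrev resMap (F : ModEt X) : (TT U F ⊞ TT V F) ⟶ TT (EtOver.prodObj U V) F :=
  biprod.desc ((pushResNatTrans (EtOver.prodFst U V)).app F) (-((pushResNatTrans (EtOver.prodSnd U V)).app F))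

variable (U V) in
abbrev unitMap (F : ModEt X) : F ⟶ (TT U F ⊞ TT V F) :=
  biprod.lift ((resPushAdjEt U).unit.app F) ((resPushAdjEt V).unit.app F)

theorem appW_zero' {M N : ModEt X} (φ : M ⟶ N) (W : EtOver X) : appW φ W 0 = 0 := map_zero (φ.val.app (op W)).hom

theorem appW_map_add {M N : ModEt X} (φ : M ⟶ N) (W : EtOver X) (x y : Scn M W) :
    appW φ W (x + y) = appW φ W x + appW φ W y := map_add (φ.val.app (op W)).hom x y

theorem fst_pair {A B : ModEt X} (W : EtOver X) (a : Scn A W) (b : Scn B W) :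
    appW biprod.fst W (appW biprod.inl W a + appW biprod.inr W b) = a := by
  rw [appW_map_add, ← appW_comp, ← appW_comp, biprod.inl_fst, biprod.inr_fst]
  exact add_zero a

theorem snd_pair {A B : ModEt X} (W : EtOver X) (a : Scn A W) (b : Scn B W) :
    appW biprod.snd W (appW biprod.inl W a + appW biprod.inr W b) = b := by
  rw [appW_map_add, ← appW_comp, ← appW_comp, biprod.inl_snd, biprod.inr_snd]
  exact zero_add b

theorem appW_resMap (F : ModEt X) (W : EtOver X) (y : Scn (TT U F ⊞ TT V F) W) :
    fromT (appW (resMap U V F) W y) =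
      rs F.val.presheaf (prod.map (EtOver.prodFst U V) (𝟙 W)) (fromT (appW biprod.fst W y)) -
        rs F.val.presheaf (prod.map (EtOver.prodSnd U V) (𝟙 W)) (fromT (appW biprod.snd W y)) := by
  have e : resMap U V F = biprod.fst ≫ (pushResNatTrans (EtOver.prodFst U V)).app F +
      -(biprod.snd ≫ (pushResNatTrans (EtOver.prodSnd U V)).app F) := by
    rw [← Preadditive.comp_neg]
    exact biprod.desc_eq
  rw [e, appW_add, appW_neg, appW_comp, appW_comp, ← sub_eq_add_neg, fromT_sub, fromT_push, fromT_push]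

theorem fst_unitMap (F : ModEt X) (W : EtOver X) (x : Scn F W) :
    fromT (appW biprod.fst W (appW (unitMap U V F) W x)) = rs F.val.presheaf (prod.snd : U ⨯ W ⟶ W) x := by
  rw [← appW_comp, biprod.lift_fst, fromT_unit]

theorem snd_unitMap (F : ModEt X) (W : EtOver X) (x : Scn F W) :
    fromT (appW biprod.snd W (appW (unitMap U V F) W x)) = rs F.val.presheaf (prod.snd : V ⨯ W ⟶ W) x := by
  rw [← appW_comp, biprod.lift_snd, fromT_unit]

theorem unit_res (F : ModEt X) : unitMap U V F ≫ resMap U V F = 0 := appW_ext fun W x => by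
  refine fromT_inj ?_
  rw [appW_comp, appW_resMap, fst_unitMap, snd_unitMap, rs_rs, rs_rs]
  refine (sub_eq_zero.2 ?_).trans fromT_zero.symm
  exact rs_congr _ (by rw [prod.map_snd, prod.map_snd]) _

/-- Lifts exist on a cover member. -/
theorem exists_lift {F : ModEt X} {W A W' : EtOver X} (p : A ⟶ W) (z : Scn (TT (EtOver.prodObj U V) F) W)
    (a : Scn F (U ⨯ A)) (b : Scn F (V ⨯ A))
    (e : rs F.val.presheaf (prod.map (EtOver.prodFst U V) (𝟙 A)) a -
      rs F.val.presheaf (prod.map (EtOver.prodSnd U V) (𝟙 A)) b =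
        rs F.val.presheaf (prod.map (𝟙 (EtOver.prodObj U V)) p) (fromT z)) (k : W' ⟶ A) :
    ∃ y, appW (resMap U V F) W' y = rs (TT (EtOver.prodObj U V) F).val.presheaf (k ≫ p) z := by
  refine ⟨rs (TT U F ⊞ TT V F).val.presheaf k (appW biprod.inl A (toT a) + appW biprod.inr A (toT b)), ?_⟩
  rw [← appW_rs, ← rs_rs]
  refine congrArg (rs _ k) (fromT_inj ?_)
  rw [appW_resMap, fst_pair, snd_pair, fromT_toT, fromT_toT, fromT_rs]
  exact e

theorem main (hsq : IsElemDistSq U.obj.hom V.obj.hom) (F : ModEt X) :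
    ∃ h : unitMap U V F ≫ resMap U V F = 0, (ShortComplex.mk _ _ h).ShortExact := by
  have hd := distPair hsq
  have hD := EtOver.prodIsLimit U V
  have hP := isSheaf_forget F
  refine ⟨unit_res F, shortExact_of_sections _ _ _ (fun W x hx => ?_) (fun W y hy => ?_) (fun W z => ?_)⟩
  · refine inj hd hP ?_ ?_
    · rw [← fst_unitMap (U := U) (V := V), hx, appW_zero', fromT_zero]
    · rw [← snd_unitMap (U := U) (V := V), hx, appW_zero', fromT_zero]
  · have hy' := congrArg fromT hy
    rw [appW_resMap] at hy'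
    obtain ⟨x, hxU, hxV⟩ := glue hd hP hD (W := W) _ _ (sub_eq_zero.1 (hy'.trans fromT_zero))
    refine ⟨x, ?_⟩
    rw [biprod_eta W (appW (unitMap U V F) W x)]
    conv_rhs => rw [biprod_eta W y]
    exact congrArg₂ (fun a b => appW biprod.inl W a + appW biprod.inr W b)
      (fromT_inj ((fst_unitMap F W x).trans hxU)) (fromT_inj ((snd_unitMap F W x).trans hxV))
  · refine ⟨_, hd.two W, fun W' h hh => ?_⟩
    obtain ⟨_, k, _, ⟨i⟩, rfl⟩ := hh
    rcases i with _ | _
    · obtain ⟨b, hb⟩ := lift_of_hom hd hP hD (W := U ⨯ W) (prod.fst : U ⨯ W ⟶ U)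
        (rs F.val.presheaf (prod.map (𝟙 (EtOver.prodObj U V)) (prod.snd : U ⨯ W ⟶ W)) (fromT z))
      refine exists_lift prod.snd z 0 (-b) ?_ k
      show F.val.presheaf.map _ 0 - F.val.presheaf.map _ (-b) = _
      rw [map_zero, map_neg, zero_sub, neg_neg]
      exact hb
    · obtain ⟨a, b, hab⟩ := lift_V hd hP hD (W := W) (fromT z)
      exact exists_lift prod.snd z a b hab k

end Groth.Agent.AlgSpMV
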