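import Groth.Agent.AlgSpMV.Shriek

/-!
Mayer-Vietoris sequence of extensions by zero of an elementary distinguished square.
-/

set_option autoImplicit false
set_option backward.isDefEq.respectTransparency false
set_option backward.isDefEq.respectTransparency.types false
set_option linter.style.haveILetI false

universe u

open CategoryTheory CategoryTheory.Limits AlgebraicGeometry Opposite

noncomputable section

namespace Groth.Agent.AlgSpMV

open _root_.AlgSp

variable {S : Scheme.{u}} {X : Sp S}

theorem homEquiv_counit {A : EtOver X} [(resModEt A).IsRightAdjoint] {F G : ModEt X} (h : F ⟶ G) :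
    (shriekResAdj A).homEquiv F G ((Adjunction.ofIsRightAdjoint (resModEt A)).counit.app F ≫ h) =
      h ≫ (resPushAdjEt A).unit.app G := by
  rw [shriekResAdj, Adjunction.comp_homEquiv]
  show (resPushAdjEt A).homEquiv _ _ ((Adjunction.ofIsRightAdjoint (resModEt A)).homEquiv _ _
    ((Adjunction.ofIsRightAdjoint (resModEt A)).counit.app F ≫ h)) = _
  have e : (Adjunction.ofIsRightAdjoint (resModEt A)).homEquiv _ _
      ((Adjunction.ofIsRightAdjoint (resModEt A)).counit.app F ≫ h) = (resModEt A).map h := by
    refine ((Adjunction.ofIsRightAdjoint (resModEt A)).homEquiv_naturality_right _ _).trans ?_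
    refine (congrArg (· ≫ (resModEt A).map h) ?_).trans (Category.id_comp _)
    exact ((Adjunction.ofIsRightAdjoint (resModEt A)).homEquiv_unit _ _ _).trans
      ((Adjunction.ofIsRightAdjoint (resModEt A)).right_triangle_components F)
  refine (congrArg ((resPushAdjEt A).homEquiv F ((resModEt A).obj G)) e).trans ?_
  refine ((resPushAdjEt A).homEquiv_unit _ _ _).trans ?_
  exact ((resPushAdjEt A).unit.naturality h).symm

variable (U V : EtOver X) [(resModEt U).IsRightAdjoint] [(resModEt V).IsRightAdjoint]
  [(resModEt (EtOver.prodObj U V)).IsRightAdjoint]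

theorem mainShriek (hsq : IsElemDistSq U.obj.hom V.obj.hom) (F : ModEt X) :
    ∃ h : biprod.lift ((shriekResNatTrans (EtOver.prodFst U V)).app F)
          (-((shriekResNatTrans (EtOver.prodSnd U V)).app F)) ≫
        biprod.desc ((Adjunction.ofIsRightAdjoint (resModEt U)).counit.app F)
          ((Adjunction.ofIsRightAdjoint (resModEt V)).counit.app F) = 0,
      (ShortComplex.mk _ _ h).ShortExact := by
  have key : ∀ (G : ModEt X) (α : (shriekRes U).obj F ⟶ G) (β : (shriekRes V).obj F ⟶ G),
      (shriekResNatTrans (EtOver.prodFst U V)).app F ≫ α = (shriekResNatTrans (EtOver.prodSnd U V)).app F ≫ β ↔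
        (shriekResAdj U).homEquiv F G α ≫ (pushResNatTrans (EtOver.prodFst U V)).app G =
          (shriekResAdj V).homEquiv F G β ≫ (pushResNatTrans (EtOver.prodSnd U V)).app G := fun G α β => by
    rw [← homEquiv_shriekResNatTrans, ← homEquiv_shriekResNatTrans]
    exact ((shriekResAdj _).homEquiv F G).injective.eq_iff.symm
  have hP := fun G => main hsq G
  have w : biprod.lift ((shriekResNatTrans (EtOver.prodFst U V)).app F)
          (-((shriekResNatTrans (EtOver.prodSnd U V)).app F)) ≫
        biprod.desc ((Adjunction.ofIsRightAdjoint (resModEt U)).counit.app F)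
          ((Adjunction.ofIsRightAdjoint (resModEt V)).counit.app F) = 0 := by
    have hc : (shriekResNatTrans (EtOver.prodFst U V)).app F ≫
        (Adjunction.ofIsRightAdjoint (resModEt U)).counit.app F =
        (shriekResNatTrans (EtOver.prodSnd U V)).app F ≫ (Adjunction.ofIsRightAdjoint (resModEt V)).counit.app F := by
      rw [key]
      have eU : (shriekResAdj U).homEquiv F F ((Adjunction.ofIsRightAdjoint (resModEt U)).counit.app F) =
          (resPushAdjEt U).unit.app F :=
        (congrArg _ (Category.comp_id _).symm).trans ((homEquiv_counit (𝟙 F)).trans (Category.id_comp _))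
      have eV : (shriekResAdj V).homEquiv F F ((Adjunction.ofIsRightAdjoint (resModEt V)).counit.app F) =
          (resPushAdjEt V).unit.app F :=
        (congrArg _ (Category.comp_id _).symm).trans ((homEquiv_counit (𝟙 F)).trans (Category.id_comp _))
      refine ((congrArg (· ≫ _) eU).trans ?_).trans (congrArg (· ≫ _) eV).symm
      obtain ⟨h0, -⟩ := hP F
      rw [unitMap, resMap, biprod.lift_desc, Preadditive.comp_neg, ← sub_eq_add_neg, sub_eq_zero] at h0
      exact h0
    rw [biprod.lift_desc, Preadditive.neg_comp, ← sub_eq_add_neg, sub_eq_zero]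
    exact hc
  refine ⟨w, ?_⟩
  haveI : Mono (biprod.lift ((shriekResNatTrans (EtOver.prodFst U V)).app F)
      (-((shriekResNatTrans (EtOver.prodSnd U V)).app F))) := by
    haveI : Mono (EtOver.prodSnd U V) := ⟨fun a b e => fan_hom_ext (distPair hsq) (EtOver.prodIsLimit U V) e⟩
    haveI := mono_shriekResNatTrans (F := F) (EtOver.prodSnd U V)
    haveI : Mono (biprod.lift ((shriekResNatTrans (EtOver.prodFst U V)).app F)
        (-((shriekResNatTrans (EtOver.prodSnd U V)).app F)) ≫ biprod.snd) := by
      rw [biprod.lift_snd]
      infer_instance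
    exact mono_of_mono _ biprod.snd
  have hmono : ∀ G, Mono (unitMap U V G) := fun G => (hP G).choose_spec.mono_f
  -- the counit map is a cokernel
  have hex : ∀ {G : ModEt X} (h : (shriekRes U).obj F ⊞ (shriekRes V).obj F ⟶ G),
      biprod.lift ((shriekResNatTrans (EtOver.prodFst U V)).app F)
        (-((shriekResNatTrans (EtOver.prodSnd U V)).app F)) ≫ h = 0 →
      ∃! x : F ⟶ G, biprod.desc ((Adjunction.ofIsRightAdjoint (resModEt U)).counit.app F)
          ((Adjunction.ofIsRightAdjoint (resModEt V)).counit.app F) ≫ x = h := by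
    intro G h hh
    obtain ⟨h0, hG⟩ := hP G
    rw [(show h = biprod.desc (biprod.inl ≫ h) (biprod.inr ≫ h) by
      apply biprod.hom_ext' <;> simp), biprod.lift_desc, Preadditive.neg_comp, ← sub_eq_add_neg, sub_eq_zero,
      key] at hh
    let ab : F ⟶ TT U G ⊞ TT V G := biprod.lift ((shriekResAdj U).homEquiv F G (biprod.inl ≫ h))
      ((shriekResAdj V).homEquiv F G (biprod.inr ≫ h))
    have hab : ab ≫ resMap U V G = 0 := by
      rw [resMap, biprod.lift_desc, Preadditive.comp_neg, ← sub_eq_add_neg, sub_eq_zero]
      exact hh
    haveI := hmono G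
    obtain ⟨x, hx⟩ := KernelFork.IsLimit.lift' hG.fIsKernel ab hab
    have hx' : x ≫ unitMap U V G = ab := hx
    refine ⟨x, ?_, fun y hy => ?_⟩
    · dsimp only
      apply biprod.hom_ext'
      · rw [biprod.inl_desc_assoc]
        apply ((shriekResAdj U).homEquiv F G).injective
        rw [homEquiv_counit]
        have := congrArg (· ≫ biprod.fst) hx'
        simpa [ab, unitMap] using this
      · rw [biprod.inr_desc_assoc]
        apply ((shriekResAdj V).homEquiv F G).injective
        rw [homEquiv_counit]
        have := congrArg (· ≫ biprod.snd) hx'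
        simpa [ab, unitMap] using this
    · apply (cancel_mono (unitMap U V G)).1
      rw [hx']
      have hy1 := congrArg (biprod.inl ≫ ·) hy
      have hy2 := congrArg (biprod.inr ≫ ·) hy
      simp only [biprod.inl_desc_assoc, biprod.inr_desc_assoc] at hy1 hy2
      apply biprod.hom_ext
      · simp only [unitMap, ab, Category.assoc, biprod.lift_fst]
        rw [← hy1, homEquiv_counit]
      · simp only [unitMap, ab, Category.assoc, biprod.lift_snd]
        rw [← hy2, homEquiv_counit]
  haveI : Epi (biprod.desc ((Adjunction.ofIsRightAdjoint (resModEt U)).counit.app F)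
      ((Adjunction.ofIsRightAdjoint (resModEt V)).counit.app F)) := ⟨fun x y e => by
    obtain ⟨z, -, hz⟩ := hex (biprod.desc ((Adjunction.ofIsRightAdjoint (resModEt U)).counit.app F)
      ((Adjunction.ofIsRightAdjoint (resModEt V)).counit.app F) ≫ x) (by rw [← Category.assoc, w, zero_comp])
    exact (hz x rfl).trans (hz y e.symm).symm⟩
  refine ShortComplex.ShortExact.mk (ShortComplex.exact_of_g_is_cokernel _ ?_)
  exact CokernelCofork.IsColimit.ofπ' _ w fun {G} h hh => ⟨(hex h hh).choose, (hex h hh).choose_spec.1⟩

end Groth.Agent.AlgSpMV
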