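import Groth.Agent.AlgSpMV.Main

/-!
An explicit sheafified extension by zero along an object of the small etale site.
-/

set_option autoImplicit false
set_option backward.isDefEq.respectTransparency false
set_option backward.isDefEq.respectTransparency.types false
set_option linter.style.haveILetI false

universe u

open CategoryTheory CategoryTheory.Limits AlgebraicGeometry Opposite

noncomputable section

namespace Groth.Agent.AlgSpMV

open _root_.AlgSp

variable {S : Scheme.{u}} {X : Sp S} (A : EtOver X) (F : ModEt X)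

/-- Restriction of sections as an additive map. -/
def rsHom {W' W : EtOver X} (h : W' ⟶ W) : Scn F W →+ Scn F W' := (F.val.presheaf.map h.op).hom

/-- The underlying presheaf of groups of the naive extension by zero. -/
def pAb : (EtOver X)ᵒᵖ ⥤ AddCommGrpCat.{u + 1} where
  obj W := AddCommGrpCat.of ((W.unop ⟶ A) →₀ F.val.obj W)
  map {W W'} h := AddCommGrpCat.ofHom
    (Finsupp.liftAddHom fun φ => (Finsupp.singleAddHom (h.unop ≫ φ)).comp (rsHom F h.unop))
  map_id W := by
    refine AddCommGrpCat.hom_ext (Finsupp.addHom_ext fun φ s => ?_)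
    show Finsupp.liftAddHom _ (Finsupp.single φ s) = Finsupp.single φ s
    rw [Finsupp.liftAddHom_apply_single]
    show Finsupp.single (𝟙 _ ≫ φ) (rs F.val.presheaf (𝟙 _) s) = _
    rw [Category.id_comp, rs_id]
  map_comp {W W' W''} h k := by
    refine AddCommGrpCat.hom_ext (Finsupp.addHom_ext fun φ s => ?_)
    show Finsupp.liftAddHom _ (Finsupp.single φ s) =
      Finsupp.liftAddHom _ (Finsupp.liftAddHom _ (Finsupp.single φ s))
    rw [Finsupp.liftAddHom_apply_single, Finsupp.liftAddHom_apply_single]
    show Finsupp.single ((k.unop ≫ h.unop) ≫ φ) (rs F.val.presheaf (k.unop ≫ h.unop) s) =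
      Finsupp.liftAddHom _ (Finsupp.single (h.unop ≫ φ) (rs F.val.presheaf h.unop s))
    rw [Finsupp.liftAddHom_apply_single]
    show _ = Finsupp.single (k.unop ≫ h.unop ≫ φ) (rs F.val.presheaf k.unop (rs F.val.presheaf h.unop s))
    rw [Category.assoc, rs_rs]

instance (W : (EtOver X)ᵒᵖ) : Module ((OEtRing X).obj.obj W) ((pAb A F).obj W) :=
  inferInstanceAs (Module ((OEtRing X).obj.obj W) ((W.unop ⟶ A) →₀ F.val.obj W))

/-- The naive extension by zero of a module. -/
def pShriek : PresheafOfModules.{u + 1} (OEtRing X).obj :=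
  PresheafOfModules.ofPresheaf (pAb A F) fun W W' h r m => by
    induction m using Finsupp.induction_linear with
    | zero => simp
    | add a b ha hb => rw [smul_add, map_add, map_add, ha, hb, smul_add]
    | single φ s =>
      show Finsupp.liftAddHom _ (r • Finsupp.single φ s) = (OEtRing X).obj.map h r • Finsupp.liftAddHom _
        (Finsupp.single φ s)
      rw [Finsupp.smul_single, Finsupp.liftAddHom_apply_single, Finsupp.liftAddHom_apply_single]
      show Finsupp.single _ (F.val.map h (r • s)) = (OEtRing X).obj.map h r • Finsupp.single _ (F.val.map h s)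
      rw [Finsupp.smul_single]
      exact congrArg (Finsupp.single _) (PresheafOfModules.map_smul F.val h r s)

/-- The basic section. -/
def sg {W : EtOver X} (φ : W ⟶ A) (s : Scn F W) : (pShriek A F).presheaf.obj (op W) := Finsupp.single φ s

theorem rs_sg {W' W : EtOver X} (h : W' ⟶ W) (φ : W ⟶ A) (s : Scn F W) :
    rs (pShriek A F).presheaf h (sg A F φ s) = sg A F (h ≫ φ) (rs F.val.presheaf h s) :=
  Finsupp.liftAddHom_apply_single _ _ _

theorem sg_add {W : EtOver X} (φ : W ⟶ A) (s t : Scn F W) : sg A F φ (s + t) = sg A F φ s + sg A F φ t :=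
  Finsupp.single_add φ s t

theorem sg_smul {W : EtOver X} (φ : W ⟶ A) (r : (OEtRing X).obj.obj (op W)) (s : F.val.obj (op W)) :
    sg A F φ (r • s : F.val.obj (op W)) = (r • sg A F φ s : (pShriek A F).obj (op W)) :=
  (Finsupp.smul_single r φ s).symm

variable {A} {A' : EtOver X}

/-- Functoriality of the naive extension by zero. -/
def pShriekMap (g : A' ⟶ A) : pShriek A' F ⟶ pShriek A F :=
  PresheafOfModules.homMk
    { app := fun W => AddCommGrpCat.ofHom
        (Finsupp.mapDomain.addMonoidHom (M := F.val.obj W) fun φ : W.unop ⟶ A' => φ ≫ g)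
      naturality := fun W W' h => by
        refine AddCommGrpCat.hom_ext (Finsupp.addHom_ext fun φ s => ?_)
        show Finsupp.mapDomain _ (Finsupp.liftAddHom _ (Finsupp.single φ s)) =
          Finsupp.liftAddHom _ (Finsupp.mapDomain _ (Finsupp.single φ s))
        rw [Finsupp.liftAddHom_apply_single, Finsupp.mapDomain_single, Finsupp.liftAddHom_apply_single]
        show Finsupp.mapDomain _ (Finsupp.single _ _) = Finsupp.single _ _
        rw [Finsupp.mapDomain_single]
        exact congrArg (fun ψ => Finsupp.single ψ _) (Category.assoc _ _ _) }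
    (fun W r m => Finsupp.mapDomain_smul r m)

theorem mono_pShriekMap (g : A' ⟶ A) [Mono g] : Mono (pShriekMap F g) := by
  refine (PresheafOfModules.toPresheaf _).mono_of_mono_map ?_
  haveI : ∀ W, Mono (((PresheafOfModules.toPresheaf _).map (pShriekMap F g)).app W) := fun W =>
    (AddCommGrpCat.mono_iff_injective _).2
      (Finsupp.mapDomain_injective fun φ ψ e => (cancel_mono g).1 e)
  exact NatTrans.mono_of_mono_app _

theorem pShriekMap_sg (g : A' ⟶ A) {W : EtOver X} (φ : W ⟶ A') (s : Scn F W) :
    (pShriekMap F g).app (op W) (sg A' F φ s) = sg A F (φ ≫ g) s :=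
  Finsupp.mapDomain_single

variable (A)

/-- The sheafified extension by zero. -/
abbrev sShriek : ModEt X := (PresheafOfModules.sheafification (𝟙 (OEtRing X).obj)).obj (pShriek A F)

/-- The image of a basic section in the sheafification. -/
def esg {W : EtOver X} (φ : W ⟶ A) (s : Scn F W) : Scn (sShriek A F) W :=
  ((PresheafOfModules.sheafificationAdjunction (𝟙 (OEtRing X).obj)).unit.app (pShriek A F)).app (op W)
    (sg A F φ s)

theorem rs_esg {W' W : EtOver X} (h : W' ⟶ W) (φ : W ⟶ A) (s : Scn F W) :
    rs (sShriek A F).val.presheaf h (esg A F φ s) = esg A F (h ≫ φ) (rs F.val.presheaf h s) := by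
  refine (PresheafOfModules.naturality_apply
    ((PresheafOfModules.sheafificationAdjunction (𝟙 (OEtRing X).obj)).unit.app (pShriek A F)) h.op
    (sg A F φ s)).symm.trans ?_
  exact congrArg _ (rs_sg A F h φ s)

theorem esg_add {W : EtOver X} (φ : W ⟶ A) (s t : Scn F W) :
    esg A F φ (s + t) = esg A F φ s + esg A F φ t := by
  rw [esg, sg_add]
  exact map_add _ _ _

theorem esg_smul {W : EtOver X} (φ : W ⟶ A) (r : (OEtRing X).obj.obj (op W)) (s : F.val.obj (op W)) :
    esg A F φ (r • s : F.val.obj (op W)) = (r • esg A F φ s : (sShriek A F).val.obj (op W)) := by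
  rw [esg, sg_smul]
  exact map_smul (((PresheafOfModules.sheafificationAdjunction (𝟙 (OEtRing X).obj)).unit.app
    (pShriek A F)).app (op W)).hom r _

variable {A}

theorem map_esg (g : A' ⟶ A) {W : EtOver X} (φ : W ⟶ A') (s : Scn F W) :
    appW ((PresheafOfModules.sheafification (𝟙 (OEtRing X).obj)).map (pShriekMap F g)) W (esg A' F φ s) =
      esg A F (φ ≫ g) s := by
  have e := congrArg (fun k => k.app (op W) (sg A' F φ s))
    ((PresheafOfModules.sheafificationAdjunction (𝟙 (OEtRing X).obj)).unit.naturality (pShriekMap F g))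
  refine (Eq.symm e).trans ?_
  show ((PresheafOfModules.sheafificationAdjunction (𝟙 (OEtRing X).obj)).unit.app (pShriek A F)).app (op W)
    ((pShriekMap F g).app (op W) (sg A' F φ s)) = _
  rw [pShriekMap_sg]
  rfl

end Groth.Agent.AlgSpMV
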