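import Groth.Agent.AlgSpMV.PShriek

/-!
Extension by zero along an open member of the small etale site preserves monomorphisms of objects.
-/

set_option autoImplicit false
set_option backward.isDefEq.respectTransparency false
set_option backward.isDefEq.respectTransparency.types false
set_option linter.style.haveILetI false
set_option maxHeartbeats 1000000

universe u

open CategoryTheory CategoryTheory.Limits AlgebraicGeometry Opposite

noncomputable section

namespace Groth.Agent.AlgSpMV

open _root_.AlgSp

variable {S : Scheme.{u}} {X : Sp S} {A : EtOver X} {F G : ModEt X}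

theorem fromT_smul {W : EtOver X} (r : (OEtRing X).obj.obj (op W)) (y : (TT A F).val.obj (op W)) :
    fromT (F := F) (r • y : (TT A F).val.obj (op W)) =
      ((OEtRing X).obj.map (prod.snd : A ⨯ W ⟶ W).op r •
        (fromT (y : Scn (TT A F) W) : F.val.obj (op (A ⨯ W))) : F.val.obj (op (A ⨯ W))) := rfl

variable (A F) in
/-- The map to the direct image of the sheafified extension by zero. -/
def toTShriek : F ⟶ TT A (sShriek A F) :=
  ⟨PresheafOfModules.homMk
    { app := fun W => AddCommGrpCat.ofHom (AddMonoidHom.mk'
        (fun s => toT (esg A F (prod.fst : A ⨯ W.unop ⟶ A) (rs F.val.presheaf prod.snd s)))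
        fun a b => by
          refine fromT_inj ?_
          rw [fromT_add, fromT_toT, fromT_toT, fromT_toT, ← esg_add]
          exact congrArg _ (map_add _ _ _))
      naturality := fun W W' h => by
        ext s
        refine fromT_inj ?_
        show fromT (toT (esg A F prod.fst (rs F.val.presheaf prod.snd (rs F.val.presheaf h.unop s)))) =
          fromT (rs (TT A (sShriek A F)).val.presheaf h.unop (toT (esg A F prod.fst (rs F.val.presheaf prod.snd s))))
        rw [fromT_rs, fromT_toT, fromT_toT, rs_esg, rs_rs, rs_rs,
          show prod.map (𝟙 A) h.unop ≫ (prod.fst : A ⨯ W.unop ⟶ A) = prod.fst by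
            rw [prod.map_fst, Category.comp_id],
          show prod.map (𝟙 A) h.unop ≫ (prod.snd : A ⨯ W.unop ⟶ W.unop) = prod.snd ≫ h.unop from prod.map_snd _ _] }
    (fun W r m => by
      show toT (esg A F prod.fst (rs F.val.presheaf prod.snd (r • m : F.val.obj W))) = _
      exact (congrArg (fun z => toT (esg A F prod.fst z)) (PresheafOfModules.map_smul F.val _ r m)).trans
        (congrArg toT (esg_smul A F prod.fst _ _)))⟩

theorem toTShriek_apply (W : EtOver X) (s : Scn F W) :
    fromT (appW (toTShriek A F) W s) = esg A F (prod.fst : A ⨯ W ⟶ A) (rs F.val.presheaf prod.snd s) := rfl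

variable (b : F ⟶ TT A G)

/-- The additive map out of the naive extension by zero. -/
def outHom (W : EtOver X) : ((W ⟶ A) →₀ F.val.obj (op W)) →+ Scn G W :=
  Finsupp.liftAddHom fun φ => AddMonoidHom.mk'
    (fun s => rs G.val.presheaf (prod.lift φ (𝟙 W)) (fromT (appW b W s)))
    fun x y => by rw [appW_map_add, fromT_add]; exact map_add _ _ _

theorem outHom_single {W : EtOver X} (φ : W ⟶ A) (s : Scn F W) :
    outHom b W (Finsupp.single φ s) = rs G.val.presheaf (prod.lift φ (𝟙 W)) (fromT (appW b W s)) :=
  Finsupp.liftAddHom_apply_single _ _ _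

theorem outHom_rs {W' W : EtOver X} (h : W' ⟶ W) (φ : W ⟶ A) (s : Scn F W) :
    outHom b W' (Finsupp.single (h ≫ φ) (rs F.val.presheaf h s)) =
      rs G.val.presheaf h (outHom b W (Finsupp.single φ s)) := by
  rw [outHom_single, outHom_single, ← appW_rs, fromT_rs, rs_rs, rs_rs]
  exact rs_congr _ (by
    apply prod.hom_ext <;>
      simp only [Category.assoc, prod.lift_fst, prod.lift_snd, prod.map_fst, prod.map_snd, prod.lift_fst_assoc,
        prod.lift_snd_assoc, Category.comp_id, Category.id_comp]) _

theorem outHom_smul {W : EtOver X} (φ : W ⟶ A) (r : (OEtRing X).obj.obj (op W)) (s : F.val.obj (op W)) :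
    outHom b W (Finsupp.single φ (r • s : F.val.obj (op W))) =
      (r • (outHom b W (Finsupp.single φ s) : G.val.obj (op W)) : G.val.obj (op W)) := by
  rw [outHom_single, outHom_single]
  have e1 : appW b W (r • s : F.val.obj (op W)) = (r • b.val.app (op W) s : (TT A G).val.obj (op W)) :=
    map_smul (b.val.app (op W)).hom r s
  rw [e1, fromT_smul]
  refine (PresheafOfModules.map_smul G.val _ _ _).trans (congrArg (· • _) ?_)
  show ((OEtRing X).obj.map _ ≫ (OEtRing X).obj.map _) r = r
  rw [← Functor.map_comp, ← op_comp, prod.lift_snd]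
  simp

/-- The induced map out of the naive extension by zero. -/
def outP : pShriek A F ⟶ (SheafOfModules.forget _ ⋙ PresheafOfModules.restrictScalars (𝟙 (OEtRing X).obj)).obj G :=
  PresheafOfModules.homMk
    { app := fun W => AddCommGrpCat.ofHom (outHom b W.unop)
      naturality := fun W W' h => by
        refine AddCommGrpCat.hom_ext (Finsupp.addHom_ext fun φ s => ?_)
        show outHom b W'.unop (Finsupp.liftAddHom _ (Finsupp.single φ s)) =
          rs G.val.presheaf h.unop (outHom b W.unop (Finsupp.single φ s))
        rw [Finsupp.liftAddHom_apply_single]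
        exact outHom_rs b h.unop φ s }
    (fun W r m => by
      show outHom b W.unop (r • m : (W.unop ⟶ A) →₀ F.val.obj W) =
        (r • (outHom b W.unop m : G.val.obj W) : G.val.obj W)
      induction m using Finsupp.induction_linear with
      | zero => rw [smul_zero, map_zero]; exact (smul_zero r).symm
      | add a c ha hc =>
        refine ((congrArg _ (smul_add r a c)).trans (map_add (outHom b W.unop) _ _)).trans ?_
        refine ((congrArg₂ (· + ·) ha hc).trans ?_).trans (congrArg (r • ·) (map_add (outHom b W.unop) a c).symm)
        exact (smul_add r _ _).symm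
      | single φ s =>
        rw [Finsupp.smul_single]
        exact outHom_smul b φ r s)

/-- The induced map out of the sheafified extension by zero. -/
def outS : sShriek A F ⟶ G :=
  ((PresheafOfModules.sheafificationAdjunction (𝟙 (OEtRing X).obj)).homEquiv _ _).symm (outP b)

theorem outS_esg {W : EtOver X} (φ : W ⟶ A) (s : Scn F W) :
    appW (outS b) W (esg A F φ s) = rs G.val.presheaf (prod.lift φ (𝟙 W)) (fromT (appW b W s)) := by
  have e : ((PresheafOfModules.sheafificationAdjunction (𝟙 (OEtRing X).obj)).homEquiv _ _) (outS b) = outP b :=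
    Equiv.apply_symm_apply _ _
  rw [Adjunction.homEquiv_unit] at e
  exact (congrArg (fun k => k.app (op W) (sg A F φ s)) e).trans (outHom_single b φ s)

theorem toTShriek_outS : toTShriek A F ≫ (resModEt A ⋙ pushOnModEt A).map (outS b) = b := appW_ext fun W s => by
  refine fromT_inj ?_
  show appW (outS b) (A ⨯ W) (fromT (appW (toTShriek A F) W s)) = _
  rw [toTShriek_apply, outS_esg, ← appW_rs, fromT_rs, rs_rs]
  refine (rs_congr _ ?_ _).trans (rs_id _ _)
  apply prod.hom_ext <;>
    simp only [Category.assoc, prod.lift_fst, prod.lift_snd, prod.map_fst, prod.map_snd, prod.lift_fst_assoc,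
      prod.lift_snd_assoc, Category.comp_id, Category.id_comp]

variable {A' : EtOver X}

theorem toTShriek_push (g : A' ⟶ A) :
    toTShriek A F ≫ (pushResNatTrans g).app (sShriek A F) =
      toTShriek A' F ≫ (resModEt A' ⋙ pushOnModEt A').map
        ((PresheafOfModules.sheafification (𝟙 (OEtRing X).obj)).map (pShriekMap F g)) := appW_ext fun W s => by
  refine fromT_inj ?_
  rw [appW_comp, fromT_push, toTShriek_apply, rs_esg, rs_rs, prod.map_fst, prod.map_snd, Category.comp_id]
  show _ = appW ((PresheafOfModules.sheafification (𝟙 (OEtRing X).obj)).map (pShriekMap F g)) (A' ⨯ W)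
    (fromT (appW (toTShriek A' F) W s))
  rw [toTShriek_apply, map_esg]

variable [(resModEt A).IsRightAdjoint] [(resModEt A').IsRightAdjoint]

theorem homEquiv_shriekResNatTrans (g : A' ⟶ A) (α : (shriekRes A).obj F ⟶ G) :
    (shriekResAdj A').homEquiv F G ((shriekResNatTrans g).app F ≫ α) =
      (shriekResAdj A).homEquiv F G α ≫ (pushResNatTrans g).app G := by
  rw [Adjunction.homEquiv_unit, Adjunction.homEquiv_unit, Functor.map_comp, ← Category.assoc]
  have h := unit_conjugateEquiv_symm (shriekResAdj A) (shriekResAdj A') (pushResNatTrans g) F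
  refine (congrArg (· ≫ (resModEt A' ⋙ pushOnModEt A').map α) h).symm.trans ?_
  rw [Category.assoc, Category.assoc, (pushResNatTrans g).naturality α]

variable (A F) in
/-- Comparison with the sheafified extension by zero. -/
def toS : (shriekRes A).obj F ⟶ sShriek A F := ((shriekResAdj A).homEquiv _ _).symm (toTShriek A F)

theorem mono_toS : Mono (toS A F) := by
  let b : F ⟶ TT A ((shriekRes A).obj F) := (shriekResAdj A).homEquiv _ _ (𝟙 _)
  have e : toS A F ≫ outS b = 𝟙 _ := by
    apply ((shriekResAdj A).homEquiv _ _).injective
    rw [Adjunction.homEquiv_naturality_right, toS, Equiv.apply_symm_apply]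
    exact toTShriek_outS b
  haveI : Mono (toS A F ≫ outS b) := e.symm ▸ inferInstance
  exact mono_of_mono (toS A F) (outS b)

theorem shriekResNatTrans_toS (g : A' ⟶ A) :
    (shriekResNatTrans g).app F ≫ toS A F =
      toS A' F ≫ (PresheafOfModules.sheafification (𝟙 (OEtRing X).obj)).map (pShriekMap F g) := by
  apply ((shriekResAdj A').homEquiv _ _).injective
  rw [homEquiv_shriekResNatTrans, Adjunction.homEquiv_naturality_right, toS, toS, Equiv.apply_symm_apply,
    Equiv.apply_symm_apply]
  exact toTShriek_push g

/-- Extension by zero along a monomorphism is a monomorphism. -/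
theorem mono_shriekResNatTrans (g : A' ⟶ A) [Mono g] : Mono ((shriekResNatTrans g).app F) := by
  haveI := mono_toS (A := A') (F := F)
  haveI := mono_pShriekMap F g
  haveI : Mono ((shriekResNatTrans g).app F ≫ toS A F) := by
    rw [shriekResNatTrans_toS]
    infer_instance
  exact mono_of_mono _ (toS A F)

end Groth.Agent.AlgSpMV
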